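import Groth.Agent.CurveCohLib.Proper
import Groth.Agent.Lib.RegEpiGen
import Groth.Agent.Lib.PnDualSheafHom
import Groth.Agent.SheafHomX.Coherent
import Groth.Agent.ParShLib.ResStalk
import Groth.Agent.ZClosLib.CohDescent
import Groth.Agent.Algz7.PullbackFormal
import Groth.Prelude.Def_ArtFun6

/-! `Hom(I, O_Y)` is finite-dimensional for `Y` proper. -/

set_option autoImplicit false
set_option linter.style.haveILetI false
set_option backward.isDefEq.respectTransparency false

universe u

open CategoryTheory CategoryTheory.Limits AlgebraicGeometry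

namespace Groth.Agent.HilbFin76

variable {k : Type u} [Field k]

/-- Morphisms out of a coherent module into the structure sheaf of a proper scheme. -/
theorem finite_hom_proper {Y : Scheme.{u}} [Y.Over (Spec (CommRingCat.of k))]
    [IsProper (Y ↘ Spec (CommRingCat.of k))] {M N : Y.Modules} (hM : Coh.IsCoh M) (hN : Coh.IsCoh N) :
    Module.Finite k (M ⟶ N) := by
  haveI : IsLocallyNoetherian Y := LocallyOfFiniteType.isLocallyNoetherian (Y ↘ Spec (CommRingCat.of k))
  haveI := CurveCohLib.finite_HH (k := k) (SheafHomX.isCoh_hom hM hN) 0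
  let e := LinearEquiv.ofBijective _ (RegEpi.evalOneLin_bijective k ((SheafHomX.hom M).obj N))
  haveI : Module.Finite k (Coh.structureModule Y ⟶ (SheafHomX.hom M).obj N) := Module.Finite.equiv e.symm
  let ev : (Coh.structureModule Y ⟶ (SheafHomX.hom M).obj N) →ₗ[k] (M ⟶ N) :=
  { SheafHomX.ev M N with
    map_smul' := fun a z => by
      show SheafHomX.ev M N (a • z) = a • SheafHomX.ev M N z
      rw [KLin.smul_def, KLin.smul_def, show Formal.smulMod k (Coh.structureModule Y) a ≫ z =
        z ≫ Formal.smulMod k ((SheafHomX.hom M).obj N) a from (KLin.comp_smulModΓ _ _).symm,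
        ← PnDual.hom_map_smulMod, SheafHomX.ev_naturality]
      exact KLin.comp_smulModΓ _ _ }
  exact Module.Finite.of_surjective ev (SheafHomX.ev M N).surjective

variable {X : Scheme.{u}} (I₀ : X.IdealSheafData)

theorem isCoh_idealMod [IsLocallyNoetherian X] : Coh.IsCoh (ClSub.idealMod I₀) :=
  QCoh.isCoh_kernel QCoh.isCoh_structureModule' (ParShLib.isCoh_quotMod I₀) _

/-- `Hom(I₀, O_Y)` is finite-dimensional when `Y` is proper over the field. -/
theorem finite_hom [X.Over (Spec (CommRingCat.of k))] [LocallyOfFiniteType (X ↘ Spec (CommRingCat.of k))]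
    (hY : IsProper (I₀.subschemeι ≫ (X ↘ Spec (CommRingCat.of k)))) :
    Module.Finite k (ClSub.idealMod I₀ ⟶ ClSub.quotMod I₀) := by
  letI : I₀.subscheme.Over (Spec (CommRingCat.of k)) := ⟨I₀.subschemeι ≫ (X ↘ Spec (CommRingCat.of k))⟩
  haveI : IsProper (I₀.subscheme ↘ Spec (CommRingCat.of k)) := hY
  haveI : IsLocallyNoetherian X := LocallyOfFiniteType.isLocallyNoetherian (X ↘ Spec (CommRingCat.of k))
  haveI : IsLocallyNoetherian I₀.subscheme := LocallyOfFiniteType.isLocallyNoetherian I₀.subschemeι
  let M := (Scheme.Modules.pullback I₀.subschemeι).obj (ClSub.idealMod I₀)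
  haveI := finite_hom_proper (k := k) (ZClosLib.isCoh_pullback I₀.subschemeι (isCoh_idealMod I₀) : Coh.IsCoh M)
    (QCoh.isCoh_structureModule' (X := I₀.subscheme))
  let adj := Scheme.Modules.pullbackPushforwardAdjunction I₀.subschemeι
  let g : (M ⟶ Coh.structureModule I₀.subscheme) →ₗ[k] (ClSub.idealMod I₀ ⟶ ClSub.quotMod I₀) :=
  { toFun := adj.homEquiv _ _
    map_add' := fun a b => by
      simp only [Adjunction.homEquiv_unit, Functor.map_add, Preadditive.comp_add]
    map_smul' := fun a z => by
      rw [RingHom.id_apply, KLin.smul_def, KLin.smul_def,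
        show Formal.smulMod k M a ≫ z = z ≫ Formal.smulMod k (Coh.structureModule I₀.subscheme) a from
          (KLin.comp_smulModΓ _ _).symm,
        Adjunction.homEquiv_naturality_right,
        Algz7.pushforward_smulMod I₀.subschemeι rfl]
      exact KLin.comp_smulModΓ _ _ }
  exact Module.Finite.of_surjective g (adj.homEquiv _ _).surjective

end Groth.Agent.HilbFin76
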