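import Groth.Agent.ArtFunLib.HilbFib
import Groth.Agent.ArtFunLib.Tangent
import Groth.Agent.HilbFin76.Hom

/-! The tangent space of the local Hilbert functor injects linearly into `Hom(I₀, O_Y)`. -/

set_option autoImplicit false
set_option linter.style.haveILetI false
set_option backward.isDefEq.respectTransparency false

universe u

open CategoryTheory CategoryTheory.Limits AlgebraicGeometry ArtFun ArtFun.Art Opposite

namespace Groth.Agent.HilbFin76

open Groth.Agent.ArtFunLib Groth.Agent.ArtFunLib.HilbAffine Groth.Agent.ArtFunLib.HilbSit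
  Groth.Agent.ArtFunLib.HilbFib

variable {k : Type u} [Field k] {X : Scheme.{u}} (x : X ⟶ specPt k) (I₀ : X.IdealSheafData)

theorem pi_fst {B A : Art k k} (p : B ⟶ A) (U : X.affineOpens) (r : Γ(X, U.1)) :
    pi x p U (fstPull x B U r) = fstPull x A U r := by
  have h1 : (pullback.fst x (specOver B)).app U.1 ≫ (XAmap x p).appLE (W x B U).1 (W x A U).1 (pi_le x p U).le =
      (pullback.fst x (specOver A)).app U.1 := by
    rw [Scheme.Hom.app_eq_appLE, Scheme.Hom.app_eq_appLE]
    exact (Scheme.Hom.appLE_comp_appLE (XAmap x p) (pullback.fst x (specOver B)) U.1 (W x B U).1 (W x A U).1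
      le_rfl (pi_le x p U).le).trans (appLE_congr (XAmap_fst x p) U.1 (W x A U).1 _ le_rfl)
  exact congr($h1 r)

theorem fst_cU (B : Art k k) (U : X.affineOpens) (t : k) :
    fstPull x B U (cU x U t) = c x B U (algebraMap k B t) := by
  have h1 : x.appLE ⊤ U.1 (fun _ _ => trivial) ≫ (pullback.fst x (specOver B)).app U.1 =
      (specOver B).appTop ≫ (XApr x B).appLE ⊤ (W x B U).1 (fun _ _ => trivial) := by
    rw [Scheme.Hom.app_eq_appLE, Scheme.Hom.appLE_comp_appLE]
    refine (appLE_congr pullback.condition ⊤ (W x B U).1 _ (fun _ _ => trivial)).trans ?_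
    rw [Scheme.Hom.comp_appLE]
    rfl
  have h2 := Scheme.ΓSpecIso_inv_naturality (CommRingCat.ofHom (ofBase B).toAlgHom.toRingHom)
  refine (congr($h1 ((Scheme.ΓSpecIso (CommRingCat.of k)).inv t))).trans ?_
  exact congrArg ((XApr x B).appLE ⊤ (W x B U).1 (fun _ _ => trivial)).hom (congr($h2 t)).symm

theorem tsz_mul_eq_zero {M : Type*} [AddCommGroup M] [Module k M] [Module kᵐᵒᵖ M] [IsCentralScalar k M]
    (a b : TrivSqZeroExt k M) (ha : a.fst = 0) (hb : b.fst = 0) : a * b = 0 := by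
  refine TrivSqZeroExt.ext ?_ ?_ <;> simp [ha, hb]

theorem fst_cU_dual (U : X.affineOpens) (t : k) :
    fstPull x (dual k k) U (cU x U t) = c x (dual k k) U (algebraMap k (DualNumber k) t) :=
  fst_cU x _ U t

/-- `a` is `r + ε z` on an open of `X ×_k Spec k[ε]`. -/
def IsSplit (U : X.affineOpens) (a : Γ(XA x (dual k k), (W x (dual k k) U).1)) (r z : Γ(X, U.1)) : Prop :=
  a = fstPull x (dual k k) U r + c x (dual k k) U (DualNumber.eps : DualNumber k) * fstPull x (dual k k) U z

theorem eps_ne : (DualNumber.eps : DualNumber k) ≠ 0 := fun h =>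
  one_ne_zero (α := k) (congrArg TrivSqZeroExt.snd h)

theorem c_mul (B : Art k k) (hB : ∀ a b : B, B.res a = 0 → B.res b = 0 → a * b = 0) (U : X.affineOpens)
    (e : B) (he : B.res e = 0) (w : Γ(XA x B, (W x B U).1)) :
    c x B U e * w = c x B U e * fstPull x B U (rho x B U w) := by
  have hmem : w - fstPull x B U (rho x B U w) ∈ RingHom.ker (rho x B U) := by
    rw [RingHom.mem_ker, map_sub, rho_fst, sub_self]
  rw [(rho_spec x B U).2] at hmem
  rw [← sub_eq_zero, ← mul_sub]
  have : (IsLocalRing.maximalIdeal B).map (c x B U) ≤ LinearMap.ker (LinearMap.mulLeft _ (c x B U e)) := by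
    refine Ideal.map_le_iff_le_comap.mpr fun b hb => ?_
    show c x B U e * c x B U b = 0
    rw [← map_mul, hB e b he ((mem_maximalIdeal_iff B b).1 hb), map_zero]
  exact this hmem

theorem res_sq_dual (a b : (dual k k).carrier) (ha : (dual k k).res a = 0) (hb : (dual k k).res b = 0) :
    a * b = 0 := by
  have ha' : TrivSqZeroExt.fst a = 0 := ha
  have hb' : TrivSqZeroExt.fst b = 0 := hb
  exact tsz_mul_eq_zero a b ha' hb'

theorem res_sq_dual2 (a b : (dual2 k k).carrier) (ha : (dual2 k k).res a = 0) (hb : (dual2 k k).res b = 0) :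
    a * b = 0 := by
  have ha' : TrivSqZeroExt.fst a = 0 := ha
  have hb' : TrivSqZeroExt.fst b = 0 := hb
  exact tsz_mul_eq_zero a b ha' hb'

theorem dual_decomp (b : DualNumber k) (hb : b.fst = 0) :
    algebraMap k (DualNumber k) b.snd * DualNumber.eps = b := by
  refine TrivSqZeroExt.ext ?_ ?_
  · simp [hb]
  · simp [TrivSqZeroExt.algebraMap_eq_inl]

theorem dual2_decomp (b : TrivSqZeroExt k (k × k)) (hb : b.fst = 0) :
    algebraMap k _ b.snd.1 * TrivSqZeroExt.inr ((1 : k), (0 : k)) +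
      algebraMap k _ b.snd.2 * TrivSqZeroExt.inr ((0 : k), (1 : k)) = b := by
  refine TrivSqZeroExt.ext ?_ ?_
  · simp [hb]
  · simp [TrivSqZeroExt.algebraMap_eq_inl]

theorem eps_smul (l : k) : (algebraMap k (DualNumber k) l * DualNumber.eps : DualNumber k) =
    TrivSqZeroExt.inr l := by
  refine TrivSqZeroExt.ext ?_ ?_ <;> simp [TrivSqZeroExt.algebraMap_eq_inl]

theorem map_inr_eq {V : Type u} [AddCommGroup V] [Module k V] [Module kᵐᵒᵖ V] [IsCentralScalar k V]
    (φ : V →ₗ[k] k) (v : V) (l : k) (h : φ v = l) :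
    (tszeMap (Λ := k) φ) (TrivSqZeroExt.inr v) = algebraMap k (DualNumber k) l * DualNumber.eps := by
  rw [eps_smul, ← h]
  exact TrivSqZeroExt.ext rfl rfl

theorem exists_split (U : X.affineOpens) (a : Γ(XA x (dual k k), (W x (dual k k) U).1)) :
    ∃ z, IsSplit x U a (rho x (dual k k) U a) z := by
  have hmem : a - fstPull x (dual k k) U (rho x (dual k k) U a) ∈ RingHom.ker (rho x (dual k k) U) := by
    rw [RingHom.mem_ker, map_sub, rho_fst, sub_self]
  have hm : IsLocalRing.maximalIdeal (dual k k) = Ideal.span {(DualNumber.eps : DualNumber k)} := by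
    ext b
    rw [mem_maximalIdeal_iff]
    refine ⟨fun hb => Ideal.mem_span_singleton'.mpr ⟨algebraMap k (DualNumber k) (TrivSqZeroExt.snd b), ?_⟩,
      fun hb => ?_⟩
    · have hb' : TrivSqZeroExt.fst b = 0 := hb
      exact dual_decomp b hb' 
    · obtain ⟨d, rfl⟩ := Ideal.mem_span_singleton'.mp hb
      exact (map_mul (dual k k).res d _).trans (mul_eq_zero_of_right _ rfl)
  rw [(rho_spec x (dual k k) U).2, hm, Ideal.map_span, Set.image_singleton, Ideal.mem_span_singleton] at hmem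
  obtain ⟨w, hw⟩ := hmem
  refine ⟨rho x (dual k k) U w, ?_⟩
  show a = _
  rw [← c_mul x (dual k k) res_sq_dual U _ rfl, ← hw, add_sub_cancel]

theorem split_unique (I : (localHilb X x I₀).obj (dual k k)) (U : X.affineOpens)
    {a a' : Γ(XA x (dual k k), (W x (dual k k) U).1)} (ha : a ∈ I.1.ideal (W x (dual k k) U))
    (ha' : a' ∈ I.1.ideal (W x (dual k k) U)) {r z z' : Γ(X, U.1)} (h : IsSplit x U a r z)
    (h' : IsSplit x U a' r z') : I₀.subschemeι.app U.1 z = I₀.subschemeι.app U.1 z' := by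
  rw [← sub_eq_zero, ← map_sub, ← RingHom.mem_ker, I₀.ker_subschemeι_app U, ← map_rho I U,
    ← rho_fst x (dual k k) U (z - z')]
  have hmem := sub_mem ha ha'
  rw [h, h', add_sub_add_left_eq_sub, ← mul_sub, ← map_sub] at hmem
  have h2 := HilbRing.mem_of_smul_mem (c x (dual k k) U) (flat_quotient x I.1 I.2.1 U) _
    (IsLocalRing.maximalIdeal (dual k k)) (fun b hb => by
      by_contra hnb
      exact eps_ne ((IsLocalRing.notMem_maximalIdeal.1 hnb).mul_left_eq_zero.mp hb)) _ hmem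
  rw [← (rho_spec x (dual k k) U).2] at h2
  obtain ⟨u, hu, v, hv, huv⟩ := Submodule.mem_sup.mp h2
  rw [← huv, map_add, RingHom.mem_ker.mp hu, zero_add]
  exact Ideal.mem_map_of_mem _ hv

/-- The first-order deformation `I` corresponds to `φ`. -/
def Spec' (I : (localHilb X x I₀).obj (dual k k)) (φ : ClSub.idealMod I₀ ⟶ ClSub.quotMod I₀) : Prop :=
  ∀ (U : X.affineOpens) (s : Γ(ClSub.idealMod I₀, U.1)) (a : Γ(XA x (dual k k), (W x (dual k k) U).1))
    (z : Γ(X, U.1)), a ∈ I.1.ideal (W x (dual k k) U) →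
    IsSplit x U a (OmegaSh.idealSect I₀ U.1 s) z → φ.app U.1 s = I₀.subschemeι.app U.1 z

theorem exists_rep {B : Art k k} (I : (localHilb X x I₀).obj B) (U : X.affineOpens)
    (s : Γ(ClSub.idealMod I₀, U.1)) :
    ∃ a ∈ I.1.ideal (W x B U), rho x B U a = OmegaSh.idealSect I₀ U.1 s :=
  (Ideal.mem_map_iff_of_surjective _ (rho_spec x B U).1).1
    ((map_rho I U).symm ▸ OmegaLib.idealSect_mem I₀ U s)

theorem exists_spec (I : (localHilb X x I₀).obj (dual k k)) : ∃ φ, Spec' x I₀ I φ := by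
  have hex : ∀ (V : X.affineOpens) (s : Γ(ClSub.idealMod I₀, V.1)), ∃ a z,
      a ∈ I.1.ideal (W x (dual k k) V) ∧ IsSplit x V a (OmegaSh.idealSect I₀ V.1 s) z := fun V s => by
    obtain ⟨a, ha, hρ⟩ := exists_rep x I₀ I V s
    obtain ⟨z, hz⟩ := exists_split x V a
    exact ⟨a, z, ha, hρ ▸ hz⟩
  choose fa fz hfa hfs using hex
  let f : ∀ V : X.affineOpens, Γ(ClSub.idealMod I₀, V.1) → Γ(ClSub.quotMod I₀, V.1) := fun V s =>
    I₀.subschemeι.app V.1 (fz V s)
  have hval : ∀ V s a z, a ∈ I.1.ideal (W x (dual k k) V) → IsSplit x V a (OmegaSh.idealSect I₀ V.1 s) z →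
      f V s = I₀.subschemeι.app V.1 z := fun V s a z ha hz =>
    split_unique x I₀ I V (hfa V s) ha (hfs V s) hz
  have hadd : ∀ V s s', f V (s + s') = f V s + f V s' := fun V s s' => by
    rw [hval V (s + s') (fa V s + fa V s') (fz V s + fz V s') (add_mem (hfa V s) (hfa V s'))
      (by show _ = _; rw [map_add, map_add, map_add, hfs V s, hfs V s']; ring)]
    exact map_add (I₀.subschemeι.app V.1).hom _ _
  obtain ⟨φ, hφ⟩ := FamilyHom.exists_hom_of_family (fun V => AddMonoidHom.mk' (f V) (hadd V))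
    (fun V V' hV s => by
      show (ClSub.quotMod I₀).presheaf.map (homOfLE hV).op (f V s) =
        f V' ((ClSub.idealMod I₀).presheaf.map (homOfLE hV).op s)
      have hfst : ∀ r, (XA x (dual k k)).presheaf.map (homOfLE (W_mono x (dual k k) hV)).op
          (fstPull x (dual k k) V r) = fstPull x (dual k k) V' (X.presheaf.map (homOfLE hV).op r) := fun r =>
        (congr($((pullback.fst x (specOver (dual k k))).naturality (homOfLE hV).op) r)).symm
      rw [hval V' _ ((XA x (dual k k)).presheaf.map (homOfLE (W_mono x (dual k k) hV)).op (fa V s))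
        (X.presheaf.map (homOfLE hV).op (fz V s))
        (I.1.ideal_le_comap_ideal (W_mono x (dual k k) hV) (hfa V s))
        (by show _ = _; rw [hfs V s, map_add, map_mul, c_map x (dual k k) hV, hfst, hfst,
              OmegaLib.idealSect_map I₀ hV])]
      exact (congr($(I₀.subschemeι.naturality (homOfLE hV).op) (fz V s))).symm)
    (fun V r s => by
      show f V (r • s) = r • f V s
      rw [hval V _ (fstPull x (dual k k) V r * fa V s) (r * fz V s) (Ideal.mul_mem_left _ _ (hfa V s))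
        (by show _ = _; rw [hfs V s, OmegaLib.idealSect_smul, map_mul, map_mul]; ring)]
      exact map_mul (I₀.subschemeι.app V.1).hom _ _)
  exact ⟨φ, fun U s a z ha hz => (hφ U s).trans (hval U s a z ha hz)⟩

theorem le_of_spec (I J : (localHilb X x I₀).obj (dual k k)) {φ : ClSub.idealMod I₀ ⟶ ClSub.quotMod I₀}
    (hI : Spec' x I₀ I φ) (hJ : Spec' x I₀ J φ) (U : X.affineOpens) :
    I.1.ideal (W x (dual k k) U) ≤ J.1.ideal (W x (dual k k) U) := by
  intro a ha
  obtain ⟨s, hs⟩ := OmegaLib.exists_of_mem I₀ U (rho x (dual k k) U a)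
    (map_rho I U ▸ Ideal.mem_map_of_mem _ ha)
  obtain ⟨z, hz⟩ := exists_split x U a
  rw [← hs] at hz
  obtain ⟨b, hb, hρ⟩ := exists_rep x I₀ J U s
  obtain ⟨z', hz'⟩ := exists_split x U b
  rw [hρ] at hz'
  have h0 : z - z' ∈ I₀.ideal U := by
    rw [← I₀.ker_subschemeι_app, RingHom.mem_ker, map_sub, sub_eq_zero]
    exact (hI U s a z ha hz).symm.trans (hJ U s b z' hb hz')
  rw [← map_rho J U] at h0
  obtain ⟨j, hj, hjz⟩ := (Ideal.mem_map_iff_of_surjective _ (rho_spec x (dual k k) U).1).1 h0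
  have h1 : a - b = c x (dual k k) U (DualNumber.eps : DualNumber k) * fstPull x (dual k k) U (z - z') := by
    rw [hz, hz', map_sub]; ring
  have h2 : a - b ∈ J.1.ideal (W x (dual k k) U) := by
    rw [h1, ← hjz, ← c_mul x (dual k k) res_sq_dual U _ rfl]
    exact Ideal.mul_mem_left _ _ hj
  simpa using add_mem h2 hb

theorem spec_add (w : (localHilb X x I₀).obj (dual2 k k)) {φ₁ φ₂ φ : ClSub.idealMod I₀ ⟶ ClSub.quotMod I₀}
    (h₁ : Spec' x I₀ ((localHilb X x I₀).map pr₁ w) φ₁) (h₂ : Spec' x I₀ ((localHilb X x I₀).map pr₂ w) φ₂)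
    (h : Spec' x I₀ ((localHilb X x I₀).map plus w) φ) : φ = φ₁ + φ₂ := by
  refine Scheme.Modules.hom_ext _ _ fun V => ?_
  ext t
  refine FamilyHom.ext_affine _ V _ _ fun U hU => ?_
  have hnat : ∀ ψ : ClSub.idealMod I₀ ⟶ ClSub.quotMod I₀,
      (ClSub.quotMod I₀).presheaf.map (homOfLE hU).op (ψ.app V t) =
        ψ.app U.1 ((ClSub.idealMod I₀).presheaf.map (homOfLE hU).op t) := fun ψ =>
    (congr($(ψ.mapPresheaf.naturality (homOfLE hU).op) t)).symm
  rw [hnat φ, hnat (φ₁ + φ₂)]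
  generalize (ClSub.idealMod I₀).presheaf.map (homOfLE hU).op t = s
  show φ.app U.1 s = φ₁.app U.1 s + φ₂.app U.1 s
  obtain ⟨a, ha, hρ⟩ := exists_rep x I₀ w U s
  have hmem : a - fstPull x (dual2 k k) U (rho x (dual2 k k) U a) ∈ RingHom.ker (rho x (dual2 k k) U) := by
    rw [RingHom.mem_ker, map_sub, rho_fst, sub_self]
  let e₁ : (dual2 k k).carrier := TrivSqZeroExt.inr ((1 : k), (0 : k))
  let e₂ : (dual2 k k).carrier := TrivSqZeroExt.inr ((0 : k), (1 : k))
  have hm : IsLocalRing.maximalIdeal (dual2 k k) ≤ Ideal.span {e₁, e₂} := by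
    intro b hb
    have hb' : TrivSqZeroExt.fst b = 0 := (mem_maximalIdeal_iff (dual2 k k) b).1 hb
    refine Ideal.mem_span_pair.mpr ⟨algebraMap k _ (TrivSqZeroExt.snd b).1,
      algebraMap k _ (TrivSqZeroExt.snd b).2, ?_⟩
    exact dual2_decomp b hb' 
  rw [(rho_spec x (dual2 k k) U).2] at hmem
  have h3 := Ideal.map_mono (f := c x (dual2 k k) U) hm hmem
  rw [Ideal.map_span, Set.image_pair, Ideal.mem_span_pair] at h3
  obtain ⟨w₁, w₂, hw⟩ := h3
  let z₁ := rho x (dual2 k k) U w₁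
  let z₂ := rho x (dual2 k k) U w₂
  have hsplit : a = fstPull x (dual2 k k) U (OmegaSh.idealSect I₀ U.1 s) +
      c x (dual2 k k) U e₁ * fstPull x (dual2 k k) U z₁ + c x (dual2 k k) U e₂ * fstPull x (dual2 k k) U z₂ := by
    rw [← c_mul x (dual2 k k) res_sq_dual2 U e₁ rfl, ← c_mul x (dual2 k k) res_sq_dual2 U e₂ rfl,
      mul_comm _ w₁, mul_comm _ w₂, add_assoc, hw, ← hρ, add_sub_cancel]
  have hmap : ∀ (g : dual2 k k ⟶ dual k k) (l₁ l₂ : k),
      g e₁ = algebraMap k (DualNumber k) l₁ * DualNumber.eps →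
      g e₂ = algebraMap k (DualNumber k) l₂ * DualNumber.eps →
      IsSplit x U (pi x g U a) (OmegaSh.idealSect I₀ U.1 s) (cU x U l₁ * z₁ + cU x U l₂ * z₂) := by
    intro g l₁ l₂ hl₁ hl₂
    show _ = _
    rw [hsplit, map_add (pi x g U), map_add (pi x g U), map_mul (pi x g U), map_mul (pi x g U), pi_fst, pi_fst,
      pi_fst, pi_c, pi_c, hl₁, hl₂, map_mul, map_mul, map_add, map_mul, map_mul, fst_cU_dual, fst_cU_dual]
    ring
  have hin : ∀ g : dual2 k k ⟶ dual k k, pi x g U a ∈ ((localHilb X x I₀).map g w).1.ideal (W x (dual k k) U) :=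
    fun g => map_pi g w rfl U ▸ Ideal.mem_map_of_mem _ ha
  rw [h U s _ _ (hin plus) (hmap plus 1 1
      (map_inr_eq _ _ _ (by simp))
      (map_inr_eq _ _ _ (by simp))),
    h₁ U s _ _ (hin pr₁) (hmap pr₁ 1 0
      (map_inr_eq _ _ _ (by simp))
      (map_inr_eq _ _ _ (by simp))),
    h₂ U s _ _ (hin pr₂) (hmap pr₂ 0 1
      (map_inr_eq _ _ _ (by simp))
      (map_inr_eq _ _ _ (by simp)))]
  simp only [map_zero, map_one, one_mul, zero_mul, add_zero, zero_add, map_add]

section Smul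

variable [X.Over (Spec (CommRingCat.of k))]

theorem spec_smul (hx : x = X ↘ Spec (CommRingCat.of k)) (t : k) (I : (localHilb X x I₀).obj (dual k k))
    {φ ψ : ClSub.idealMod I₀ ⟶ ClSub.quotMod I₀} (hI : Spec' x I₀ I φ)
    (hψ : Spec' x I₀ ((localHilb X x I₀).map (scale t) I) ψ) : ψ = t • φ := by
  refine Scheme.Modules.hom_ext _ _ fun V => ?_
  ext v
  refine FamilyHom.ext_affine _ V _ _ fun U hU => ?_
  have hnat : ∀ θ : ClSub.idealMod I₀ ⟶ ClSub.quotMod I₀,
      (ClSub.quotMod I₀).presheaf.map (homOfLE hU).op (θ.app V v) =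
        θ.app U.1 ((ClSub.idealMod I₀).presheaf.map (homOfLE hU).op v) := fun θ =>
    (congr($(θ.mapPresheaf.naturality (homOfLE hU).op) v)).symm
  rw [hnat ψ, hnat (t • φ)]
  generalize (ClSub.idealMod I₀).presheaf.map (homOfLE hU).op v = s
  show ψ.app U.1 s = (t • φ).app U.1 s
  rw [KLin.smul_app_apply]
  obtain ⟨a, ha, hρ⟩ := exists_rep x I₀ I U s
  obtain ⟨z, hz⟩ := exists_split x U a
  rw [hρ] at hz
  have he : (scale t : dual k k ⟶ dual k k) (DualNumber.eps : DualNumber k) =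
      algebraMap k (DualNumber k) t * DualNumber.eps :=
    map_inr_eq _ _ _ (by simp)
  have hs : IsSplit x U (pi x (scale t) U a) (OmegaSh.idealSect I₀ U.1 s) (cU x U t * z) := by
    show _ = _
    rw [hz, map_add (pi x _ U), map_mul (pi x _ U), pi_fst, pi_fst, pi_c, he, map_mul, map_mul, fst_cU_dual]
    ring
  rw [hI U s a z ha hz, hψ U s _ _ (map_pi (scale t) I rfl U ▸ Ideal.mem_map_of_mem _ ha) hs]
  have hc : cU x U t =
      X.presheaf.map (homOfLE (le_top : U.1 ≤ ⊤)).op (Coh.toGlobal (X ↘ Spec (CommRingCat.of k)) t) := by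
    subst hx
    rfl
  rw [← hc]
  exact map_mul (I₀.subschemeι.app U.1).hom _ _

/-- The tangent space of the local Hilbert functor of a proper closed subscheme is finite-dimensional. -/
theorem hfin (hx : x = X ↘ Spec (CommRingCat.of k)) [LocallyOfFiniteType x]
    (hY : IsProper (I₀.subschemeι ≫ x)) [T : TangentStr (localHilb X x I₀)] : Hfin (localHilb X x I₀) := by
  subst hx
  haveI := finite_hom (k := k) I₀ hY
  choose Φ hΦ using exists_spec (X ↘ Spec (CommRingCat.of k)) I₀
  let L : TangentSpace (localHilb X (X ↘ Spec (CommRingCat.of k)) I₀) →ₗ[k]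
      (ClSub.idealMod I₀ ⟶ ClSub.quotMod I₀) :=
  { toFun := fun v => Φ v
    map_add' := fun v w => by
      obtain ⟨z, hz⟩ := (HilbFib.cmp_bijective X _ I₀ (isFibreProd_dual2 (Λ := k) (k := k))
        (toBase_surjective _)).2 ⟨(v, w), (HilbFib.h0 X _ I₀).2.elim _ _⟩
      have h1 : (localHilb X _ I₀).map pr₁ z = v := congrArg (fun q => q.1.1) hz
      have h2 : (localHilb X _ I₀).map pr₂ z = w := congrArg (fun q => q.1.2) hz
      have h3 := TangentStr.add_eq (F := localHilb X (X ↘ Spec (CommRingCat.of k)) I₀) z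
      rw [h1, h2] at h3
      show Φ (v + w) = Φ v + Φ w
      refine spec_add _ I₀ z (by rw [h1]; exact hΦ v) (by rw [h2]; exact hΦ w) ?_
      rw [← h3]
      exact hΦ _
    map_smul' := fun c v => spec_smul _ I₀ rfl c v (hΦ v) (TangentStr.smul_eq c v ▸ hΦ (c • v)) }
  refine Module.Finite.of_injective L fun v w hvw => ?_
  have h : Φ v = Φ w := hvw
  exact Subtype.ext (HilbAffine.ext_ideal _ fun U =>
    le_antisymm (le_of_spec _ I₀ v w (hΦ v) (h ▸ hΦ w) U) (le_of_spec _ I₀ w v (hΦ w) (h ▸ hΦ v) U))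

end Smul

end Groth.Agent.HilbFin76
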